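import Cfsg.Agent.TAB.B.Geo.Left
import Cfsg.Agent.TAB.B.P11.Main
import Cfsg.Agent.TAB.Eng.Delta
import Cfsg.Agent.H447.CTab

/-!
# The types 4I, 6B, 6F of the Baby Monster are what is left over (helper72, TAB)

With `x = χ(g)`, `y = χ(g²)`, `z = χ(g³)`: the three types lie on the parabola `131 (x + 8) (x - 20) = 147 (y - 78)`.
-/

set_option autoImplicit false
set_option maxRecDepth 100000

namespace Cfsg.Agent.TAB.B.A3

open Cfsg Cfsg.Agent.TAB.Eng Cfsg.Agent.TAB.M4 Cfsg.Agent.TAB.B.P11 Cfsg.Agent.TAB.B.Geo Cfsg.Agent.Characters.Core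

theorem ch_le (g : BG) : ch g ≤ 4371 := by
  have := finBG
  obtain ⟨n, ρ, h⟩ := isChar
  have e : ∀ k, ρ.character k = (ch k : ℂ) := fun k => by
    rw [congrFun h k, tr_eq_ch, Rat.cast_intCast]
  have h1 := Characters.Values.norm_character_le ρ g
  have h2 := e 1
  rw [Representation.char_one, ch_one] at h2
  have h3 : Module.finrank ℂ (Fin n → ℂ) = 4371 := by exact_mod_cast h2
  rw [e, h3, Complex.norm_intCast] at h1
  exact_mod_cast (le_abs_self _).trans h1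

theorem sum_cube [Fintype BG] : ∃ k : ℤ, ∑ g, ch (g ^ 3) = 3 * k * dat.N + ∑ g, ch g * ch g * ch g := by
  have h := H447.CTab.inner_mu (char_delta isChar Nat.prime_three) ⟨1, isIrr_one⟩
  refine ⟨H447.CTab.mu (char_delta isChar Nat.prime_three) ⟨1, isIrr_one⟩, ?_⟩
  generalize H447.CTab.mu (char_delta isChar Nat.prime_three) ⟨1, isIrr_one⟩ = k at h
  rw [classInner_def, inv_mul_eq_iff_eq_mul₀ card_ne_zero_complex, show Nat.card BG = dat.N from card_B] at h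
  simp only [tr_eq_ch, Rat.cast_intCast, Pi.one_apply, map_one, mul_one, ← Finset.sum_div, Finset.sum_sub_distrib,
    pow_succ (_ : ℂ), pow_zero, one_mul] at h
  have h1 : ((∑ g, ch (g ^ 3) : ℤ) : ℂ) = ((3 * k * dat.N + ∑ g, ch g * ch g * ch g : ℤ) : ℂ) := by
    push_cast at h ⊢
    linear_combination 3 * h
  exact_mod_cast h1

/-- the types that are left -/
def lo (i : ℕ) : Bool := i == 15 || i == 20 || i == 24

/-- the functions with known sums -/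
def pl (a₀ a₁ a₂ a₃ a₄ a₅ a₆ a₇ a₈ a₉ x y z : ℤ) : ℤ :=
  a₀ + a₁ * x + a₂ * (x * x) + a₃ * y + a₄ * (y * y) + a₅ * (x * y) + a₆ * (x * x * x) + a₇ * (x * x * y) +
    a₈ * (x * x * (x * x)) + a₉ * z

/-- the sum over the other types -/
def num (F : ℤ → ℤ → ℤ → ℤ) : ℤ := ((List.range dat.n).map fun i =>
  if lo i then 0 else (dat.cnt i : ℤ) * F (val i) (val (dat.pwf i 2)) (val (dat.pwf i 3))).sum

theorem num_a : num (pl 90136036 29849136 (-16244) 2791236 21609 462168 (-411864) (-38514) 17161 0) =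
    92989080 * (dat.N : ℤ) := by decide +kernel

theorem num_b : num (pl 160 172 11 0 0 0 (-1) 0 0 0) = 171 * (dat.N : ℤ) := by decide +kernel

theorem num_c : num (pl 1404 1464 648 0 0 0 0 0 0 588) = 2052 * (dat.N : ℤ) := by decide +kernel

theorem num_d : (dat.N : ℤ) - num (pl 1 0 0 0 0 0 0 0 0 0) = 268091971248292311859200000 := by decide +kernel

theorem num_4I : 159 * (dat.N : ℤ) - num (pl 160 12 (-1) 0 0 0 0 0 0 0) = 147 * (dat.cnt 15 : ℤ) := by decide +kernel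

theorem num_6B : 9 * (dat.N : ℤ) - num (pl 8 9 1 0 0 0 0 0 0 0) = 588 * (dat.cnt 20 : ℤ) := by decide +kernel

theorem num_6F : -19 * (dat.N : ℤ) - num (pl (-20) (-19) 1 0 0 0 0 0 0 0) = 196 * (dat.cnt 24 : ℤ) := by decide +kernel

theorem uniq131 : ∀ i < 173, (val i - 78) % 131 = 0 → i = 3 ∨ i = 5 := by decide +kernel

theorem inv_val : ∀ i < 173, dat.ord i ∣ 2 → val i = 4371 ∨ val i = -493 ∨ val i = 275 ∨ val i = -53 ∨ val i = 19 := by
  decide +kernel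

theorem ch_val {i : ℕ} (hi : i < 173) {g : BG} (hg : TyB i g) : ch g = val i := ch_of_tr (ty_val hi hg)

theorem box_of {R : Finset BG} {i : ℕ} {v c : ℤ} (hc : 0 < c) {f : BG → ℤ}
    (h1 : ∀ g ∈ R, f g = if ch g = v then c else 0) (h2 : ∑ g ∈ R, f g = c * dat.cnt i)
    (h3 : ∀ g ∈ R, ch g = v → TyB i g) : BoxB i := by
  have := finBG
  rw [Finset.sum_congr rfl h1, ← Finset.sum_filter, Finset.sum_const, nsmul_eq_mul, mul_comm] at h2
  have h4 : (R.filter fun g => ch g = v).card = dat.cnt i := by exact_mod_cast mul_left_cancel₀ hc.ne' h2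
  rw [BoxB, Box, ← h4, ← Nat.card_eq_finsetCard]
  exact Nat.card_le_card_of_injective (fun g => ⟨g.1, h3 g.1 (Finset.mem_filter.1 g.2).1 (Finset.mem_filter.1 g.2).2⟩)
    fun a b e => Subtype.ext (congrArg Subtype.val e :)

theorem ord_four {g : BG} (h : orderOf (g ^ 2) = 2) : orderOf g = 4 := by
  refine orderOf_eq_prime_pow (p := 2) (n := 1) (fun e => ?_) ?_
  · rw [pow_one] at e
    rw [e, orderOf_one] at h
    omega
  · have h8 := eq_of_ord h
    rwa [← pow_mul] at h8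

theorem ord_six {g : BG} (h : orderOf (g ^ 2) = 3) (h' : g ^ 3 ≠ 1) : orderOf g = 6 := by
  have h1 := eq_of_ord h
  rw [← pow_mul] at h1
  have h2 := orderOf_dvd_of_pow_eq_one h1
  have h3 : 3 ∣ orderOf g := h ▸ orderOf_pow_dvd 2
  have h4 : orderOf g ≠ 3 := fun e => h' (eq_of_ord e)
  have h5 := Nat.le_of_dvd (by norm_num) h2
  have h6 : orderOf g ≠ 0 := fun e => by rw [e] at h2; omega
  omega

/-- **The types 4I, 6B, 6F are left over.** -/
theorem box_three (hb : ∀ i < 173, i ≠ 15 → i ≠ 20 → i ≠ 24 → BoxB i) : BoxB 15 ∧ BoxB 20 ∧ BoxB 24 := by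
  classical
  have := finBG
  have := Fintype.ofFinite BG
  obtain ⟨x, hx, m1, m2, m3, m4, m5, m6, m7, m8⟩ := exists_x
  obtain rfl : ch = x := funext fun g => ch_of_tr (hx g)
  obtain ⟨k, m9⟩ := sum_cube
  obtain ⟨R, hR, hsum⟩ := exists_rest (K := key) (D := dat) okSep lo fun i hi h => by
    simp only [lo, Bool.or_eq_false_iff, beq_eq_false_iff_ne] at h
    exact hb i hi h.1.1 h.1.2 h.2
  have hN : ((Finset.univ : Finset BG).card : ℤ) = dat.N := by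
    rw [Finset.card_univ, ← Nat.card_eq_fintype_card, card_B]
    rfl
  have key : ∀ a₀ a₁ a₂ a₃ a₄ a₅ a₆ a₇ a₈ a₉, ∑ g ∈ R, pl a₀ a₁ a₂ a₃ a₄ a₅ a₆ a₇ a₈ a₉ (ch g) (ch (g ^ 2)) (ch (g ^ 3)) =
      (a₀ + a₂ + a₃ + 4 * a₄ + 2 * a₇ + 4 * a₈ + 3 * k * a₉) * dat.N - num (pl a₀ a₁ a₂ a₃ a₄ a₅ a₆ a₇ a₈ a₉) := by
    intro a₀ a₁ a₂ a₃ a₄ a₅ a₆ a₇ a₈ a₉
    rw [hsum _ (fun i => pl a₀ a₁ a₂ a₃ a₄ a₅ a₆ a₇ a₈ a₉ (val i) (val (dat.pwf i 2)) (val (dat.pwf i 3))) fun i hi g hg => by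
      rw [ch_val hi hg, ch_val (ty_pow hi hg 2).1 (ty_pow hi hg 2).2, ch_val (ty_pow hi hg 3).1 (ty_pow hi hg 3).2]]
    refine congrArg₂ _ ?_ rfl
    simp only [pl, Finset.sum_add_distrib, ← Finset.mul_sum, m1, m2, m3, m4, m5, m6, m7, m8, m9, Finset.sum_const,
      nsmul_eq_mul, hN]
    ring
  have l1 : ∀ g ∈ R, 131 * ((ch g + 8) * (ch g - 20)) = 147 * (ch (g ^ 2) - 78) := by
    have h1 := key 90136036 29849136 (-16244) 2791236 21609 462168 (-411864) (-38514) 17161 0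
    have h2 : ∀ x y z, pl 90136036 29849136 (-16244) 2791236 21609 462168 (-411864) (-38514) 17161 0 x y z =
        (131 * ((x + 8) * (x - 20)) - 147 * (y - 78)) ^ 2 := fun x y z => by rw [pl]; ring
    rw [num_a] at h1
    simp only [h2] at h1
    intro g hg
    have h3 := zero_of_sum (fun g _ => sq_nonneg _) (h1.trans (by ring)) g hg
    have h4 := pow_eq_zero_iff two_ne_zero |>.1 h3
    omega
  have l2 : ∀ g ∈ R, TyB 3 (g ^ 2) ∧ ch (g ^ 2) = -53 ∧ (ch g = -1 ∨ ch g = 13) ∨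
      TyB 5 (g ^ 2) ∧ ch (g ^ 2) = 78 ∧ (ch g = -8 ∨ ch g = 20) := by
    intro g hg
    have h1 := l1 g hg
    obtain ⟨i, hi, -, hi'⟩ := hR (g ^ 2) fun h => by
      have h2 := l1 _ h
      have h3 := ch_le ((g ^ 2) ^ 2)
      have h4 : -64 ≤ ch (g ^ 2) := by nlinarith
      have h5 : ch (g ^ 2) ≤ 76 := by nlinarith
      have h6 : ch (g ^ 2) = -53 := by omega
      rw [h6] at h2
      omega
    have h2 := ch_val hi hi'
    rcases uniq131 i hi (by omega) with rfl | rfl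
    · have h3 : ch (g ^ 2) = -53 := h2.trans (by decide +kernel)
      have h4 : (ch g + 1) * (ch g - 13) = 0 := by
        rw [h3] at h1
        linarith
      exact Or.inl ⟨hi', h3, (mul_eq_zero.1 h4).imp (by omega) (by omega)⟩
    · have h3 : ch (g ^ 2) = 78 := h2.trans (by decide +kernel)
      have h4 : (ch g + 8) * (ch g - 20) = 0 := by omega
      exact Or.inr ⟨hi', h3, (mul_eq_zero.1 h4).imp (by omega) (by omega)⟩
  have l3 : ∀ g ∈ R, ch g ≠ 13 := by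
    have h1 := key 160 172 11 0 0 0 (-1) 0 0 0
    rw [num_b] at h1
    intro g hg h
    have h3 := zero_of_sum (fun g hg => by
      rcases l2 g hg with ⟨-, -, h2 | h2⟩ | ⟨-, -, h2 | h2⟩ <;> rw [h2, pl] <;> norm_num) (h1.trans (by ring)) g hg
    rw [h, pl] at h3
    norm_num at h3
  have l4 : ∀ g ∈ R, orderOf g = 4 ∧ ch (g ^ 2) = -53 ∧ ch g = -1 ∧ ch (g ^ 3) = -1 ∨ orderOf g = 6 ∧ ch (g ^ 2) = 78 ∧
      (ch g = -8 ∧ (ch (g ^ 3) = -53 ∨ ch (g ^ 3) = 19) ∨ ch g = 20 ∧ (ch (g ^ 3) = -493 ∨ ch (g ^ 3) = 275)) := by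
    intro g hg
    rcases l2 g hg with ⟨h1, h2, h3⟩ | ⟨h1, h2, h3⟩
    · have h4 := ord_four ((tyB_iff sg_2C _).1 h1).1
      have h5 := h3.resolve_right (l3 g hg)
      exact Or.inl ⟨h4, h2, h5, (ch_gal (by rw [h4]; norm_num)).trans h5⟩
    · have h4 := ((tyB_iff sg_3A _).1 h1).1
      have h5 : (g ^ 3) ^ 2 = 1 := by rw [← pow_mul, mul_comm, pow_mul, eq_of_ord h4]
      obtain ⟨i, hi, -, hi'⟩ := hR (g ^ 3) fun h => by
        have h6 := l2 _ h
        rw [h5, ch_one] at h6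
        omega
      have h6 := inv_val i hi (hi'.1 ▸ orderOf_dvd_of_pow_eq_one h5)
      rw [← ch_val hi hi'] at h6
      have h7 := ch_pow_prime g Nat.prime_three
      refine Or.inr ⟨ord_six h4 fun e => ?_, h2, by omega⟩
      rw [e, ch_one] at h7
      omega
  have l5 : ∀ g ∈ R, pl 1404 1464 648 0 0 0 0 0 0 588 (ch g) (ch (g ^ 2)) (ch (g ^ 3)) = 0 := by
    have h1 := key 1404 1464 648 0 0 0 0 0 0 588
    have h2 := key 1 0 0 0 0 0 0 0 0 0
    have h3 : ∀ g ∈ R, 0 ≤ pl 1404 1464 648 0 0 0 0 0 0 588 (ch g) (ch (g ^ 2)) (ch (g ^ 3)) ∧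
        pl 1404 1464 648 0 0 0 0 0 0 588 (ch g) (ch (g ^ 2)) (ch (g ^ 3)) ≤
          451584 * pl 1 0 0 0 0 0 0 0 0 0 (ch g) (ch (g ^ 2)) (ch (g ^ 3)) := fun g hg => by
      rcases l4 g hg with ⟨-, -, h4, h5⟩ | ⟨-, -, ⟨h4, h5 | h5⟩ | ⟨h4, h5 | h5⟩⟩ <;> rw [h4, h5, pl, pl] <;> norm_num
    have h4 := Finset.sum_nonneg fun g hg => (h3 g hg).1
    have h5 := Finset.sum_le_sum fun g hg => (h3 g hg).2
    have h6 := num_d
    have h7 : (dat.N : ℤ) = 4154781481226426191177580544000000 := rfl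
    rw [← Finset.mul_sum, h2] at h5
    rw [num_c] at h1
    rw [h1, h7] at h4 h5
    rw [h7] at h6
    obtain rfl : k = 0 := by omega
    exact zero_of_sum (fun g hg => (h3 g hg).1) (h1.trans (by ring))
  have ty : ∀ {i o : ℕ} {l : List (ℕ × ℤ)}, sg dat val i = (o, l) → ∀ {g : BG}, orderOf g = o →
      (∀ p ∈ l, ch (g ^ p.1) = p.2) → TyB i g := fun h g h1 h2 => (tyB_iff' h g).2 ⟨h1, h2⟩
  refine ⟨box_of (v := -1) (c := 147) (by norm_num) (fun g hg => ?_) ((key 160 12 (-1) 0 0 0 0 0 0 0).trans (by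
      rw [← num_4I]; ring)) fun g hg h => ?_,
    box_of (v := 20) (c := 588) (by norm_num) (fun g hg => ?_) ((key 8 9 1 0 0 0 0 0 0 0).trans (by
      rw [← num_6B]; ring)) fun g hg h => ?_,
    box_of (v := -8) (c := 196) (by norm_num) (fun g hg => ?_) ((key (-20) (-19) 1 0 0 0 0 0 0 0).trans (by
      rw [← num_6F]; ring)) fun g hg h => ?_⟩
  · rcases l4 g hg with ⟨-, -, h4, -⟩ | ⟨-, -, ⟨h4, -⟩ | ⟨h4, -⟩⟩ <;> rw [h4, pl] <;> norm_num
  · rcases l4 g hg with ⟨h1, h2, -⟩ | ⟨-, -, h4⟩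
    · exact ty sg_4I h1 (by simp [h, h2])
    · omega
  · rcases l4 g hg with ⟨-, -, h4, -⟩ | ⟨-, -, ⟨h4, -⟩ | ⟨h4, -⟩⟩ <;> rw [h4, pl] <;> norm_num
  · have h5 := l5 g hg
    rw [h, pl] at h5
    rcases l4 g hg with ⟨-, -, h4, -⟩ | ⟨h1, h2, -⟩
    · omega
    · have h3 : ch (g ^ 3) = -493 := by omega
      exact ty sg_6B h1 (by simp [h, h2, h3])
  · rcases l4 g hg with ⟨-, -, h4, -⟩ | ⟨-, -, ⟨h4, -⟩ | ⟨h4, -⟩⟩ <;> rw [h4, pl] <;> norm_num
  · have h5 := l5 g hg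
    rw [h, pl] at h5
    rcases l4 g hg with ⟨-, -, h4, -⟩ | ⟨h1, h2, -⟩
    · omega
    · have h3 : ch (g ^ 3) = -53 := by omega
      exact ty sg_6F h1 (by simp [h, h2, h3])

/-- **all the boxes** from the boxes of the types other than 4I, 6B, 6F -/
theorem box_left (hb : ∀ i < 173, i ≠ 15 → i ≠ 20 → i ≠ 24 → BoxB i) : ∀ i < 173, BoxB i := by
  intro i hi
  obtain ⟨h1, h2, h3⟩ := box_three hb
  by_cases a : i = 15
  · exact a ▸ h1
  by_cases b : i = 20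
  · exact b ▸ h2
  by_cases c : i = 24
  · exact c ▸ h3
  exact hb i hi a b c

end Cfsg.Agent.TAB.B.A3
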