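import Cfsg.Agent.TAB.B.P11.Main
import Cfsg.Agent.H186.U33.XConj
import Cfsg.Agent.KFacts.FiTT.Final

/-!
# The types 3A and 6A of the Baby Monster (helper72, TAB)
-/

set_option autoImplicit false
set_option maxRecDepth 100000

namespace Cfsg.Agent.TAB.B.A3

open Cfsg Cfsg.Agent.TAB.Eng Cfsg.Agent.TAB.B Cfsg.Agent.TAB.Big Cfsg.Agent.TAB.B.P11
open Cfsg.Agent.H819.U33 (g wf)
open Cfsg.Agent.H480.Ore (FiFrame)
open Subgroup (centralizer zpowers mem_centralizer_singleton_iff)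

theorem c3 {x : BG} (hx : orderOf x = 3) : cc x ≤ 387370509926400 := H186.U33.card_three H186.U33.isoB hx

theorem ty_3A : TyB 5 (g wT) := ty_one sg_3A o_T vT

/-- **the type 3A** -/
theorem boxC_3A : BoxCB 5 := boxC_of ty_3A (c3 o_T) (by rw [cnt_3A])

/-- a subgroup of index at most two -/
theorem card_le_two {L : Type*} [Group L] [Finite L] {A S : Subgroup L}
    (h : ∀ a ∈ A, ∀ b ∈ A, a ∉ S → b ∉ S → a * b ∈ S) : Nat.card A ≤ 2 * Nat.card ↥(A ⊓ S) := by
  classical
  by_cases h0 : ∃ b ∈ A, b ∉ S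
  · obtain ⟨b, hb, hb'⟩ := h0
    rw [show 2 * Nat.card ↥(A ⊓ S) = Nat.card (Bool × ↥(A ⊓ S)) by rw [Nat.card_prod, Nat.card_eq_fintype_card (α := Bool)]; rfl]
    refine Nat.card_le_card_of_injective (fun a : A => if ha : (a : L) ∈ S then (true, ⟨a, a.2, ha⟩)
      else (false, ⟨a * b, A.mul_mem a.2 hb, h a a.2 b hb ha hb'⟩)) fun x y e => ?_
    by_cases h1 : (x : L) ∈ S <;> by_cases h2 : (y : L) ∈ S
    · simp only [dif_pos h1, dif_pos h2] at e
      exact Subtype.ext (congrArg (fun p : Bool × ↥(A ⊓ S) => (p.2 : L)) e)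
    · simp only [dif_pos h1, dif_neg h2] at e
      exact Bool.noConfusion (congrArg Prod.fst e : true = false)
    · simp only [dif_neg h1, dif_pos h2] at e
      exact Bool.noConfusion (congrArg Prod.fst e : false = true)
    · simp only [dif_neg h1, dif_neg h2] at e
      exact Subtype.ext (mul_right_cancel (congrArg (fun p : Bool × ↥(A ⊓ S) => (p.2 : L)) e))
  · push Not at h0
    rw [inf_eq_left.2 (show A ≤ S from h0)]
    omega

theorem frame_le {L : Type*} [Group L] [Finite L] {s : L} (D : FiFrame s) (hs : orderOf s = 3) (f : Spor.Fi22) :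
    Nat.card ↥(centralizer ({s} : Set L) ⊓ centralizer ({D.j f} : Set L)) ≤
      2 * (3 * Nat.card (centralizer ({f} : Set Spor.Fi22))) := by
  have hfin : Finite Spor.Fi22 := Finite.of_injective D.j D.inj
  refine (card_le_two (A := centralizer {s} ⊓ centralizer {D.j f}) (S := D.S) fun a ha b hb => D.cover' (mem_centralizer_singleton_iff.1 ha.1)
    (mem_centralizer_singleton_iff.1 hb.1)).trans (Nat.mul_le_mul_left _ ?_)
  rw [← hs, ← Nat.card_zpowers, ← Nat.card_prod]
  have key : ∀ x : ↥(centralizer ({s} : Set L) ⊓ centralizer ({D.j f} : Set L) ⊓ D.S),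
      ∃ p : zpowers s × centralizer ({f} : Set Spor.Fi22), (p.1 : L) * D.j p.2 = x := by
    rintro ⟨_, ⟨-, hx⟩, k, e, rfl⟩
    refine ⟨(⟨s ^ k, k, rfl⟩, ⟨e, mem_centralizer_singleton_iff.2 (D.inj ?_)⟩), rfl⟩
    have h1 := mem_centralizer_singleton_iff.1 hx
    rw [← mul_assoc, ((show Commute (D.j f) s from D.comm f).zpow_right k).eq, mul_assoc, mul_assoc] at h1
    rw [map_mul, map_mul]
    exact mul_left_cancel h1
  choose φ hφ using key
  exact Nat.card_le_card_of_injective φ fun x y e => Subtype.ext (by rw [← hφ x, e, hφ])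

theorem s5_six : ∀ a : Equiv.Perm (Fin 5), a ^ 6 = 1 → a ^ 2 ≠ 1 → a ^ 3 ≠ 1 →
    ∀ b : Equiv.Perm (Fin 5), b ^ 6 = 1 → b ^ 2 ≠ 1 → b ^ 3 ≠ 1 → ∃ t, t * a * t⁻¹ = b := by
  decide +kernel

/-- the elements of order six commuting with an element of order eleven -/
theorem conj_six {u v e e' : BG} (hu : orderOf u = 6) (hv : orderOf v = 6) (he : orderOf e = 11) (he' : orderOf e' = 11)
    (h1 : u * e = e * u) (h2 : v * e' = e' * v) : IsConj u v := by
  have := finBG
  obtain ⟨c, -, i, hi⟩ := exists_conj (q := 11) (by norm_num) (by rw [card_B]; norm_num) he' he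
  obtain ⟨φ, h3, h4⟩ := q11 he'
  have h5 : c * u * c⁻¹ * e' = e' * (c * u * c⁻¹) := by
    rw [← hi]
    exact ((show Commute (c * u * c⁻¹) (c * e * c⁻¹) from conj_comm c h1).zpow_right i).eq
  have o : ∀ y : centralizer ({e'} : Set BG), orderOf (y : BG) = 6 → φ y ^ 6 = 1 ∧ φ y ^ 2 ≠ 1 ∧ φ y ^ 3 ≠ 1 := by
    intro y hy
    have h6 := (quo_ord (by norm_num) he' h4 y (by rw [hy]; norm_num)).trans hy
    exact ⟨eq_of_ord h6, ne_of_ord h6 (by norm_num), ne_of_ord h6 (by norm_num)⟩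
  let a : centralizer ({e'} : Set BG) := ⟨c * u * c⁻¹, mem_centralizer_singleton_iff.2 h5⟩
  let b : centralizer ({e'} : Set BG) := ⟨v, mem_centralizer_singleton_iff.2 h2⟩
  have ha : orderOf (a : BG) = 6 := (orderOf_conj' u c).trans hu
  obtain ⟨t, ht⟩ := s5_six _ (o a ha).1 (o a ha).2.1 (o a ha).2.2 _ (o b hv).1 (o b hv).2.1 (o b hv).2.2
  obtain ⟨k, rfl⟩ := h3 t
  obtain ⟨j, hj⟩ := (h4 (k * a * k⁻¹ * b⁻¹)).1 (by rw [map_mul, map_mul, map_mul, map_inv, map_inv, ht, mul_inv_cancel])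
  have h7 : (k : BG) * (c * u * c⁻¹) * (k : BG)⁻¹ = e' ^ j * v := eq_mul_of_mul_inv_eq (Eq.symm hj)
  have h8 : (e' ^ j) ^ 6 = 1 := by
    have h9 : (e' ^ j * v) ^ 6 = 1 := by rw [← h7, conj_pow, conj_pow, eq_of_ord hu]; group
    rwa [((show Commute v e' from h2).zpow_right j).symm.mul_pow, eq_of_ord hv, mul_one] at h9
  have h9 : (e' ^ j) ^ 11 = 1 := by
    rw [← zpow_natCast, ← zpow_mul, mul_comm, zpow_mul, zpow_natCast, eq_of_ord he', one_zpow]
  have h10 : e' ^ j = 1 := by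
    calc e' ^ j = ((e' ^ j) ^ 6) ^ 2 * ((e' ^ j) ^ 11)⁻¹ := by group
      _ = 1 := by rw [h8, h9]; group
  rw [h10, one_mul] at h7
  exact isConj_iff.2 ⟨k * c, by rw [← h7]; group⟩

theorem o_TS : orderOf (g wT * g wS) = 6 := order_mul c_T_S.eq o_T o_S (by norm_num)

theorem cc_6A : cc (g wT * g wS) ≤ 110361968640 := by
  have := finBG
  have hs := H186.U33.f_order
  obtain ⟨D⟩ := H480.Ore.frame_of_fiB ((H844.Ore.BThree.three_le H186.U33.isoB hs).resolve_left fun h => by
    have h2 := Subgroup.card_le_of_le H186.U33.XX_le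
    rw [H819.U33.card_XX] at h2
    omega)
  obtain ⟨T, d, π, lift, B⟩ := KFacts.FiTT.exists_base (K := Spor.Fi22) ⟨MulEquiv.refl _⟩
  have hfin : Finite Spor.Fi22 := Finite.of_injective D.j D.inj
  have hm := (centralizer ({d} : Set Spor.Fi22)).card_mul_index
  rw [B.index_C, B.card] at hm
  have hC : Nat.card ↥(centralizer ({d} : Set Spor.Fi22)) = 18393661440 := by omega
  obtain ⟨y, hy, hy'⟩ := exists_order_mem (H := centralizer ({d} : Set Spor.Fi22)) (p := 11) (by norm_num)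
    (by rw [hC]; norm_num)
  have : Fact (Nat.Prime 2) := ⟨Nat.prime_two⟩
  have hd : orderOf (D.j d) = 2 := by
    rw [orderOf_injective D.j D.inj]
    exact orderOf_eq_prime ((pow_two d).trans B.facts.dd) B.facts.d_ne
  have h1 : Commute (D.j d) (D.j y) := by
    show D.j d * D.j y = D.j y * D.j d
    rw [← map_mul, ← map_mul, mem_centralizer_singleton_iff.1 hy]
  have h2 := conj_six (order_mul (D.comm d).symm hs hd (by norm_num)) o_TS
    ((orderOf_injective D.j D.inj y).trans hy') o_x66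
    (Commute.mul_left (show Commute (D.j y) _ from D.comm y).symm h1).eq (c_x66_T.mul_right c_x66_S).symm.eq
  have h3 := frame_le D hs d
  rw [hC, ← cc_mul Nat.prime_three hs (D.comm d).symm hd (by norm_num)] at h3
  rw [cc, card_cent_isConj h2]
  exact h3

theorem ty_6A : TyB 19 (g wT * g wS) :=
  ty_pq sg_6A Nat.prime_three o_T c_T_S.eq o_S (by norm_num) (by norm_num) vTS vT vS

/-- **the type 6A** -/
theorem boxC_6A : BoxCB 19 := boxC_of ty_6A cc_6A (by rw [cnt_6A])

end Cfsg.Agent.TAB.B.A3
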